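import Groth.Agent.GrLib8.SerreFormula

/-!
# The Grothendieck–Serre formula for modules with pieces of finite length

`GrLib8.formula` assumes that the ring of degree zero is Artinian. Here only the pieces of the module
are assumed to have finite length, as is needed for associated graded modules over Rees algebras.
-/

set_option autoImplicit false
set_option linter.unusedSectionVars false

universe u

open DirectSum

namespace Groth.Agent.GrLib8.ReesSerre

section LinAlg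

variable {S : Type u} [CommRing S]

theorem isFiniteLength_mid {A B C : Type u} [AddCommGroup A] [Module S A] [AddCommGroup B] [Module S B]
    [AddCommGroup C] [Module S C] (f : A →ₗ[S] B) (g : B →ₗ[S] C) (h : Function.Exact f g)
    (hA : IsFiniteLength S A) (hC : IsFiniteLength S C) : IsFiniteLength S B := by
  obtain ⟨_, _⟩ := isFiniteLength_iff_isNoetherian_isArtinian.1 hA
  obtain ⟨_, _⟩ := isFiniteLength_iff_isNoetherian_isArtinian.1 hC
  exact isFiniteLength_iff_isNoetherian_isArtinian.2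
    ⟨isNoetherian_of_range_eq_ker f g (LinearMap.exact_iff.1 h).symm,
      isArtinian_of_range_eq_ker f g (LinearMap.exact_iff.1 h).symm⟩

theorem lenN_of_exact {A B C : Type u} [AddCommGroup A] [Module S A] [AddCommGroup B] [Module S B]
    [AddCommGroup C] [Module S C] (hB : IsFiniteLength S B) (f : A →ₗ[S] B) (g : B →ₗ[S] C)
    (h : Function.Exact f g) :
    lenN (S := S) B = lenN (S := S) (LinearMap.range f) + lenN (S := S) (LinearMap.range g) := by
  have he : Function.Exact (LinearMap.range f).subtype g.rangeRestrict := fun b =>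
    ⟨fun hb => ⟨⟨b, (h b).1 (congrArg Subtype.val hb)⟩, rfl⟩, fun ⟨a, ha⟩ => Subtype.ext ((h b).2 (ha ▸ a.2))⟩
  have h1 := Module.length_ne_top_iff.2 (IsFiniteLength.of_injective hB (LinearMap.range f).injective_subtype)
  have h2 := Module.length_ne_top_iff.2 (IsFiniteLength.of_surjective hB g.surjective_rangeRestrict)
  rw [lenN, Module.length_eq_add_of_exact _ _ Subtype.val_injective g.surjective_rangeRestrict he,
    ENat.toNat_add h1 h2]
  rfl

theorem lenN_congr {A B : Type u} [AddCommGroup A] [Module S A] [AddCommGroup B] [Module S B] (e : A ≃ₗ[S] B) :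
    lenN (S := S) A = lenN (S := S) B := by rw [lenN, lenN, e.length_eq]

theorem lenN_zero (A : Type u) [AddCommGroup A] [Module S A] [Subsingleton A] : lenN (S := S) A = 0 := by
  rw [lenN, Module.length_eq_zero_iff.2 ‹_›]; rfl

end LinAlg

variable {R : Type u} [CommRing R] [IsNoetherianRing R] {σ : Type u} [SetLike σ R] [AddSubgroupClass σ R]
  {𝒜 : ℤ → σ} [GradedRing 𝒜] {a : HomogeneousIdeal 𝒜}

/-- All pieces have finite length over the ring of degree zero. -/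
def FL (X : GrLC.GMod.{u} 𝒜) : Prop := ∀ g : ℤ, IsFiniteLength (GrLC.deg0 𝒜) (GrLC.comp 𝒜 X.gr g)

theorem midClosed_fl : MidClosed (𝒜 := 𝒜) fun A _ _ => IsFiniteLength (GrLC.deg0 𝒜) A :=
  ⟨fun A B C _ _ _ _ _ _ f g hex hA hC => isFiniteLength_mid f g hex hA hC,
    fun A _ _ h => @IsFiniteLength.of_subsingleton _ _ A _ _ h⟩

theorem lenH_zero {X : GrLC.GMod.{u} 𝒜} {i : ℕ} {g : ℤ} (h : HVan a X i g) : lenH a X i g = 0 := by
  haveI := Submodule.subsingleton_iff_eq_bot.2 (h (starRes X.gr))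
  exact lenN_zero _

theorem fl_of_injective {X Y : GrLC.GMod.{u} 𝒜} {f : X.carrier →ₗ[R] Y.carrier} {d : ℤ}
    (hf : GrLC.IsGrHomDeg X.gr Y.gr f d) (hinj : Function.Injective f) (hY : FL Y) : FL X := fun g => by
  let u : GrLC.comp 𝒜 X.gr g →ₗ[GrLC.deg0 𝒜] GrLC.comp 𝒜 Y.gr (g + d) :=
    (f.restrictScalars (GrLC.deg0 𝒜)).restrict fun x hx => hf g x hx
  exact IsFiniteLength.of_injective (f := u) (hY _) fun x y h => Subtype.ext (hinj (congrArg Subtype.val h :))

theorem fl_of_surjective {Y Z : GrLC.GMod.{u} 𝒜} {p : Y.carrier →ₗ[R] Z.carrier}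
    (hp : GrLC.IsGrHomDeg Y.gr Z.gr p 0) (hsurj : Function.Surjective p) (hY : FL Y) : FL Z := fun g => by
  let v : GrLC.comp 𝒜 Y.gr g →ₗ[GrLC.deg0 𝒜] GrLC.comp 𝒜 Z.gr g :=
    (p.restrictScalars (GrLC.deg0 𝒜)).restrict fun x hx => by
      have := hp g x hx; rwa [add_zero] at this
  refine IsFiniteLength.of_surjective (f := v) (hY g) fun y => ?_
  obtain ⟨x, hx, hxy⟩ := exists_preimage_mem p hp (show (y : Z.carrier) ∈ Z.gr g from y.2) (hsurj _)
  rw [sub_zero] at hx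
  exact ⟨⟨x, hx⟩, Subtype.ext hxy⟩

variable (hpos : ∀ n < 0, ∀ r ∈ 𝒜 n, r = 0) (ha : (GrSyz.irrel 𝒜).toIdeal ≤ a.toIdeal)
  (hak : ∃ k, a.toIdeal ^ k ≤ (GrSyz.irrel 𝒜).toIdeal)

include hpos ha hak

/-- Pieces of cohomology of modules with pieces of finite length have finite length. -/
theorem fl_piece : ∀ (i : ℕ) (X : GrLC.GMod.{u} 𝒜) [Module.Finite R X.carrier], FL X → ∀ (g : ℤ)
    (E : GrLC.StarInjRes 𝒜 X.gr), IsFiniteLength (GrLC.deg0 𝒜) (E.Hcomp a i g)
  | 0 => fun X _ hX g E => by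
    obtain ⟨ι₀, hι, -⟩ := exists_H0_piece (a := a) E g
    exact IsFiniteLength.of_injective (hX g) hι
  | i + 1 => fun X _ hX g => by
    let Φ : ∀ (A : Type u) [AddCommGroup A] [Module (GrLC.deg0 𝒜) A], Prop :=
      fun A _ _ => IsFiniteLength (GrLC.deg0 𝒜) A
    obtain ⟨T, Q, j, p, _, _, hT, hQ, hj, hp, hji, hps, hjp, -⟩ := exists_tors_seq (GrSyz.irrel 𝒜) X
    have hTv : HVan a T (i + 1) (g - 0) := hVan_of_torsion (fun m => by
      obtain ⟨k, hk⟩ := hT m
      obtain ⟨l, hl⟩ := hak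
      exact ⟨l * k, fun r hr => hk r (Ideal.pow_right_mono hl k (pow_mul a.toIdeal l k ▸ hr))⟩) i _
    refine hp_middle (a := a) (Φ := Φ) midClosed_fl hj hp hji hps hjp (hp_of_hVan midClosed_fl hTv) ?_
    obtain ⟨e, he, x, hx, hxi, hreg⟩ := exists_regular_pos 𝒜 hpos hQ
    obtain ⟨Y, π, _, hμ, hπg, hinj, hπ, hex, -⟩ := exists_regular_seq hx hreg
    obtain ⟨c, hc⟩ := exists_hVan hpos ha (i + 1) Q
    exact hp_of_regular (a := a) (Φ := Φ) midClosed_fl he π hμ hπg hinj hπ hex i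
      (fun g E => fl_piece i Y (fl_of_surjective hπg hπ (fl_of_surjective hp hps hX)) g E) c hc g

omit hpos ha hak in
/-- Additivity along short exact sequences, one degree at a time. -/
theorem eulerH_add {X Y Z : GrLC.GMod.{u} 𝒜} {f : X.carrier →ₗ[R] Y.carrier} {p : Y.carrier →ₗ[R] Z.carrier}
    {d : ℤ} (hf : GrLC.IsGrHomDeg X.gr Y.gr f d) (hp : GrLC.IsGrHomDeg Y.gr Z.gr p 0) (hinj : Function.Injective f)
    (hsurj : Function.Surjective p) (hex : Function.Exact f p) (N : ℕ) (g : ℤ)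
    (hN : HVan a X (N + 1) (g - d))
    (fX : ∀ i, IsFiniteLength (GrLC.deg0 𝒜) ((starRes X.gr).Hcomp a i (g - d)))
    (fY : ∀ i, IsFiniteLength (GrLC.deg0 𝒜) ((starRes Y.gr).Hcomp a i g))
    (fZ : ∀ i, IsFiniteLength (GrLC.deg0 𝒜) ((starRes Z.gr).Hcomp a i g)) :
    eulerH a N Y g = eulerH a N X (g - d) + eulerH a N Z g := by
  let EX : GrLC.StarInjRes 𝒜 X.gr := starRes X.gr
  let EY : GrLC.StarInjRes 𝒜 Y.gr := starRes Y.gr
  let EZ : GrLC.StarInjRes 𝒜 Z.gr := starRes Z.gr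
  obtain ⟨h0, hi⟩ := exists_les f p hf hp hinj hsurj hex EX EY EZ a
  choose δ hδ e1 e2 e3 using hi
  let R₀ := GrLC.deg0 𝒜
  let u : ∀ i, EX.Hcomp a i (g - d) →ₗ[R₀] EY.Hcomp a i g := fun i =>
    pieceMap EX EY a _ (isGrHomDeg_hmap a hf i) (sub_add_cancel g d)
  let v : ∀ i, EY.Hcomp a i g →ₗ[R₀] EZ.Hcomp a i g := fun i =>
    pieceMap EY EZ a _ (isGrHomDeg_hmap a hp i) (add_zero g)
  let w : ∀ i, EZ.Hcomp a i g →ₗ[R₀] EX.Hcomp a (i + 1) (g - d) := fun i =>
    pieceMap EZ EX a (δ i) (hδ i) (sub_eq_add_neg g d).symm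
  have x1 : ∀ i, Function.Exact (u i) (v i) := fun i y => by
    constructor
    · intro hy
      obtain ⟨z, hz, hze⟩ := exists_preimage_Hgr EX EY a _ (isGrHomDeg_hmap a hf i) y.2
        ((e1 i _).1 (congrArg Subtype.val hy :))
      exact ⟨⟨z, hz⟩, Subtype.ext hze⟩
    · rintro ⟨z, rfl⟩
      exact Subtype.ext ((e1 i _).2 ⟨z, rfl⟩)
  have x2 : ∀ i, Function.Exact (v i) (w i) := fun i y => by
    constructor
    · intro hy
      obtain ⟨z, hz, hze⟩ := exists_preimage_Hgr EY EZ a _ (isGrHomDeg_hmap a hp i) y.2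
        ((e2 i _).1 (congrArg Subtype.val hy :))
      rw [sub_zero] at hz
      exact ⟨⟨z, hz⟩, Subtype.ext hze⟩
    · rintro ⟨z, rfl⟩
      exact Subtype.ext ((e2 i _).2 ⟨z, rfl⟩)
  have x3 : ∀ i, Function.Exact (w i) (u (i + 1)) := fun i y => by
    constructor
    · intro hy
      obtain ⟨z, hz, hze⟩ := exists_preimage_Hgr EZ EX a (δ i) (hδ i) y.2
        ((e3 i _).1 (congrArg Subtype.val hy :))
      rw [sub_neg_eq_add, sub_add_cancel] at hz
      exact ⟨⟨z, hz⟩, Subtype.ext hze⟩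
    · rintro ⟨z, rfl⟩
      exact Subtype.ext ((e3 i _).2 ⟨z, rfl⟩)
  let A : ℕ → ℤ := fun i => lenN (S := R₀) (LinearMap.range (u i))
  let B : ℕ → ℤ := fun i => lenN (S := R₀) (LinearMap.range (v i))
  let C : ℕ → ℤ := fun i => lenN (S := R₀) (LinearMap.range (w i))
  have hY : ∀ i, (lenH a Y i g : ℤ) = A i + B i := fun i =>
    (congrArg Nat.cast (lenN_of_exact (fY i) (u i) (v i) (x1 i))).trans (Nat.cast_add _ _)
  have hZ : ∀ i, (lenH a Z i g : ℤ) = B i + C i := fun i =>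
    (congrArg Nat.cast (lenN_of_exact (fZ i) (v i) (w i) (x2 i))).trans (Nat.cast_add _ _)
  have hX : ∀ i, (lenH a X (i + 1) (g - d) : ℤ) = C i + A (i + 1) := fun i =>
    (congrArg Nat.cast (lenN_of_exact (fX (i + 1)) (w i) (u (i + 1)) (x3 i))).trans (Nat.cast_add _ _)
  have hX0 : (lenH a X 0 (g - d) : ℤ) = A 0 := by
    have hu0 : Function.Injective (u 0) := fun y z h => Subtype.ext (h0 (congrArg Subtype.val h :))
    exact congrArg Nat.cast (lenN_congr (LinearEquiv.ofInjective (u 0) hu0))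
  have tele : ∀ n, eulerH a n Y g - eulerH a n X (g - d) - eulerH a n Z g = -((-1 : ℤ) ^ n * C n) := by
    intro n
    induction n with
    | zero =>
      simp only [eulerH, zero_add, Finset.sum_range_one, pow_zero, one_mul]
      rw [hY, hZ, hX0]; ring
    | succ n ih =>
      have hs : ∀ W g', eulerH a (n + 1) W g' = eulerH a n W g' + (-1 : ℤ) ^ (n + 1) * (lenH a W (n + 1) g' : ℤ) :=
        fun W g' => Finset.sum_range_succ _ _
      rw [hs, hs, hs, hY, hX, hZ, pow_succ]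
      linear_combination ih
  have hC : C N = 0 := by
    haveI : Subsingleton (EX.Hcomp a (N + 1) (g - d)) := Submodule.subsingleton_iff_eq_bot.2 (hN EX)
    exact congrArg Nat.cast (lenN_zero _)
  have := tele N
  rw [hC, mul_zero, neg_zero] at this
  linarith

omit ha hak in
/-- Additivity of the pieces of modules. -/
theorem lenN_comp_add {X Y Z : GrLC.GMod.{u} 𝒜} (fY : FL Y)
    {f : X.carrier →ₗ[R] Y.carrier} {p : Y.carrier →ₗ[R] Z.carrier} {d : ℤ}
    (hf : GrLC.IsGrHomDeg X.gr Y.gr f d) (hp : GrLC.IsGrHomDeg Y.gr Z.gr p 0) (hinj : Function.Injective f)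
    (hsurj : Function.Surjective p) (hex : Function.Exact f p) (g : ℤ) :
    lenN (S := GrLC.deg0 𝒜) (GrLC.comp 𝒜 Y.gr g) =
      lenN (S := GrLC.deg0 𝒜) (GrLC.comp 𝒜 X.gr (g - d)) + lenN (S := GrLC.deg0 𝒜) (GrLC.comp 𝒜 Z.gr g) := by
  let u : GrLC.comp 𝒜 X.gr (g - d) →ₗ[GrLC.deg0 𝒜] GrLC.comp 𝒜 Y.gr g :=
    (f.restrictScalars (GrLC.deg0 𝒜)).restrict fun x hx => by
      have := hf (g - d) x hx; rwa [sub_add_cancel] at this
  let v : GrLC.comp 𝒜 Y.gr g →ₗ[GrLC.deg0 𝒜] GrLC.comp 𝒜 Z.gr g :=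
    (p.restrictScalars (GrLC.deg0 𝒜)).restrict fun x hx => by
      have := hp g x hx; rwa [add_zero] at this
  have hu : Function.Injective u := fun x y h => Subtype.ext (hinj (congrArg Subtype.val h :))
  have hv : Function.Surjective v := fun y => by
    obtain ⟨x, hx, hxy⟩ := exists_preimage_mem p hp (show (y : Z.carrier) ∈ Z.gr g from y.2) (hsurj _)
    rw [sub_zero] at hx
    exact ⟨⟨x, hx⟩, Subtype.ext hxy⟩
  have huv : Function.Exact u v := fun y => by
    constructor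
    · intro hy
      obtain ⟨x, hx, hxy⟩ := exists_preimage_mem f hf (show (y : Y.carrier) ∈ Y.gr g from y.2)
        ((hex _).1 (congrArg Subtype.val hy :))
      exact ⟨⟨x, hx⟩, Subtype.ext hxy⟩
    · rintro ⟨x, rfl⟩
      exact Subtype.ext ((hex _).2 ⟨x, rfl⟩)
  rw [lenN_of_exact (fY g) u v huv]
  exact congrArg₂ (· + ·) (lenN_congr (LinearEquiv.ofInjective u hu)).symm
    (lenN_congr ((LinearEquiv.ofTop _ (LinearMap.range_eq_top.2 hv))))

/-- Cohomology of a torsion module. -/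
theorem eulerH_torsion (N : ℕ) (T : GrLC.GMod.{u} 𝒜) (hT : LocCoh.IsPowerTorsion a.toIdeal T.carrier) (g : ℤ) :
    eulerH a N T g = lenN (S := GrLC.deg0 𝒜) (GrLC.comp 𝒜 T.gr g) := by
  have h0 : lenH a T 0 g = lenN (S := GrLC.deg0 𝒜) (GrLC.comp 𝒜 T.gr g) := by
    let E : GrLC.StarInjRes 𝒜 T.gr := starRes T.gr
    obtain ⟨ε, hε⟩ := exists_H0_equiv E a
    let v : GrLC.comp 𝒜 T.gr g →ₗ[GrLC.deg0 𝒜] E.Hcomp a 0 g :=
      { toFun := fun m => ⟨ε ⟨m.1, hT m.1⟩, (hε g ⟨m.1, hT m.1⟩).1 m.2⟩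
        map_add' := fun m m' => Subtype.ext (map_add ε ⟨m.1, hT m.1⟩ ⟨m'.1, hT m'.1⟩)
        map_smul' := fun c m => Subtype.ext (map_smul ε (c : R) ⟨m.1, hT m.1⟩) }
    refine (lenN_congr (LinearEquiv.ofBijective v ⟨fun m m' h => ?_, fun y => ?_⟩)).symm
    · exact Subtype.ext (congrArg (Subtype.val) (ε.injective (congrArg Subtype.val h :)) :)
    · obtain ⟨m, hm⟩ := ε.surjective y.1
      exact ⟨⟨m.1, (hε g m).2 (hm.symm ▸ y.2)⟩, Subtype.ext hm⟩
  rw [eulerH, Finset.sum_range_succ', Finset.sum_eq_zero, zero_add, pow_zero, one_mul, h0]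
  intro i _
  rw [lenH_zero (hVan_of_torsion hT i g), Nat.cast_zero, mul_zero]

omit hak in
/-- The Euler characteristic vanishes in high degrees. -/
theorem exists_eulerH_zero (N : ℕ) (X : GrLC.GMod.{u} 𝒜) [Module.Finite R X.carrier] :
    ∃ c : ℤ, ∀ g, c < g → eulerH a N X g = 0 := by
  choose b hb using fun i => exists_hVan hpos ha i X
  refine ⟨∑ i ∈ Finset.range (N + 1), |b i|, fun g hg => Finset.sum_eq_zero fun i hi => ?_⟩
  have := Finset.single_le_sum (f := fun i => |b i|) (fun i _ => abs_nonneg _) hi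
  have := le_abs_self (b i)
  rw [lenH_zero (hb i g (by omega)), Nat.cast_zero, mul_zero]

omit hpos ha hak in
theorem eq_zero_of_eventually_zero (P : Polynomial ℚ) (c : ℤ) (h : ∀ g : ℤ, c < g → P.eval (g : ℚ) = 0) : P = 0 :=
  Polynomial.eq_zero_of_infinite_isRoot P (Set.infinite_of_injective_forall_mem
    (f := fun n : ℕ => ((c + 1 + n : ℤ) : ℚ)) (fun m n hmn => by simpa using hmn) fun n => h _ (by omega))

/-- The formula, by Noetherian induction. -/
theorem formula (N : ℕ) (hN : ∀ (X : GrLC.GMod.{u} 𝒜) (i : ℕ) (g : ℤ), N < i → HVan a X i g)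
    (X : GrLC.GMod.{u} 𝒜) [Module.Finite R X.carrier] (hX : FL X) (P : Polynomial ℚ)
    (hP : ∃ c : ℤ, ∀ g, c < g → P.eval (g : ℚ) = (lenN (S := GrLC.deg0 𝒜) (GrLC.comp 𝒜 X.gr g) : ℚ)) (g : ℤ) :
    (lenN (S := GrLC.deg0 𝒜) (GrLC.comp 𝒜 X.gr g) : ℚ) - (eulerH a N X g : ℚ) = P.eval (g : ℚ) := by
  classical
  suffices key : ∀ (K : Submodule R X.carrier) (Z : GrLC.GMod.{u} 𝒜) [Module.Finite R Z.carrier], FL Z →
      ∀ (π : X.carrier →ₗ[R] Z.carrier), Function.Surjective π → LinearMap.ker π = K → ∀ P : Polynomial ℚ,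
      (∃ c : ℤ, ∀ g, c < g → P.eval (g : ℚ) = (lenN (S := GrLC.deg0 𝒜) (GrLC.comp 𝒜 Z.gr g) : ℚ)) →
      ∀ g : ℤ, (lenN (S := GrLC.deg0 𝒜) (GrLC.comp 𝒜 Z.gr g) : ℚ) - (eulerH a N Z g : ℚ) = P.eval (g : ℚ) from
    key _ X hX LinearMap.id Function.surjective_id rfl P hP g
  intro K
  induction K using WellFoundedGT.induction with
  | _ K ih => ?_
  intro Z _ hZfl π hπ hK P hP g
  have child : ∀ (Z' : GrLC.GMod.{u} 𝒜) [Module.Finite R Z'.carrier] (p : Z.carrier →ₗ[R] Z'.carrier),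
      FL Z' → Function.Surjective p → LinearMap.ker p ≠ ⊥ → ∀ P : Polynomial ℚ,
      (∃ c : ℤ, ∀ g, c < g → P.eval (g : ℚ) = (lenN (S := GrLC.deg0 𝒜) (GrLC.comp 𝒜 Z'.gr g) : ℚ)) →
      ∀ g : ℤ, (lenN (S := GrLC.deg0 𝒜) (GrLC.comp 𝒜 Z'.gr g) : ℚ) - (eulerH a N Z' g : ℚ) = P.eval (g : ℚ) := by
    intro Z' _ p hfl hp hne
    refine ih (LinearMap.ker (p ∘ₗ π)) ?_ Z' hfl (p ∘ₗ π) (hp.comp hπ) rfl
    refine lt_of_le_of_ne (hK ▸ LinearMap.ker_le_ker_comp π p) fun he => hne ((Submodule.eq_bot_iff _).2 fun z hz => ?_)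
    obtain ⟨w, rfl⟩ := hπ z
    have : w ∈ LinearMap.ker π := by rw [hK, he]; exact hz
    exact this
  obtain ⟨T, Q, j, p, _, _, hT, hQ, hj, hp, hji, hps, hjp, -⟩ := exists_tors_seq a Z
  have hTfl : FL T := fl_of_injective hj hji hZfl
  have hQfl : FL Q := fl_of_surjective hp hps hZfl
  have hfl : ∀ (W : GrLC.GMod.{u} 𝒜) [Module.Finite R W.carrier], FL W → ∀ g i,
      IsFiniteLength (GrLC.deg0 𝒜) ((starRes W.gr).Hcomp a i g) :=
    fun W _ hW g i => fl_piece hpos ha hak i W hW g _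
  have hvN : ∀ (W : GrLC.GMod.{u} 𝒜) g, HVan a W (N + 1) g := fun W g => hN W _ g (by omega)
  have htors : ∀ g, (lenN (S := GrLC.deg0 𝒜) (GrLC.comp 𝒜 Z.gr g) : ℚ) - (eulerH a N Z g : ℚ) =
      (lenN (S := GrLC.deg0 𝒜) (GrLC.comp 𝒜 Q.gr g) : ℚ) - (eulerH a N Q g : ℚ) := fun g => by
    rw [lenN_comp_add hpos hZfl hj hp hji hps hjp g,
      eulerH_add hj hp hji hps hjp N g (hvN T _) (hfl T hTfl _) (hfl Z hZfl _) (hfl Q hQfl _),
      sub_zero, eulerH_torsion hpos ha hak N T hT g]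
    push_cast; ring
  obtain ⟨cT, hcT⟩ := exists_bounded_of_torsion (M := T.carrier) 𝒜 hpos T.gr fun t => by
    obtain ⟨n, hn⟩ := hT t
    exact ⟨n, fun r hr => hn r (Ideal.pow_right_mono ha n hr)⟩
  by_cases hker : LinearMap.ker p = ⊥
  swap
  · rw [htors]
    obtain ⟨c, hc⟩ := hP
    refine child Q p hQfl hps hker P ⟨max c cT, fun g hg => ?_⟩ g
    rw [hc g (by omega), lenN_comp_add hpos hZfl hj hp hji hps hjp g, sub_zero]
    haveI : Subsingleton (GrLC.comp 𝒜 T.gr g) :=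
      subsingleton_of_forall_eq 0 fun t => Subtype.ext (hcT g (by omega) t.1 t.2)
    rw [lenN_zero, zero_add]
  -- torsion free
  have hZ : GrLC.gam a.toIdeal Z.carrier = ⊥ := (Submodule.eq_bot_iff _).2 fun z hz => by
    have hp0 : p z = 0 := by
      rw [← Submodule.mem_bot R, ← hQ]
      obtain ⟨n, hn⟩ := hz
      exact ⟨n, fun r hr => by rw [← map_smul, hn r hr, map_zero]⟩
    exact (Submodule.eq_bot_iff _).1 hker z hp0
  have hirr : GrLC.gam (GrSyz.irrel 𝒜).toIdeal Z.carrier = ⊥ := (Submodule.eq_bot_iff _).2 fun m ⟨n, hn⟩ => by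
    refine (Submodule.eq_bot_iff _).1 hZ m ?_
    obtain ⟨l, hl⟩ := hak
    exact ⟨l * n, fun r hr => hn r (Ideal.pow_right_mono hl n (pow_mul a.toIdeal l n ▸ hr))⟩
  rcases subsingleton_or_nontrivial Z.carrier with hsub | hnt
  · haveI : ∀ g, Subsingleton (GrLC.comp 𝒜 Z.gr g) := fun g => ⟨fun x y => Subtype.ext (Subsingleton.elim _ _)⟩
    obtain ⟨c, hc⟩ := hP
    have hP0 : P = 0 := eq_zero_of_eventually_zero P c fun g hg => by
      rw [hc g hg, lenN_zero, Nat.cast_zero]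
    have he0 : eulerH a N Z g = 0 := Finset.sum_eq_zero fun i _ => by
      rw [lenH_zero (hVan_of_subsingleton i g), Nat.cast_zero, mul_zero]
    rw [hP0, Polynomial.eval_zero, lenN_zero, he0]
    simp
  obtain ⟨e, he, x, hx, hxi, hreg⟩ := exists_regular_pos 𝒜 hpos (M := Z.carrier) hirr
  obtain ⟨Y, q, _, hμ, hqg, hinj, hq, hex, -⟩ := exists_regular_seq hx hreg
  have hYfl : FL Y := fl_of_surjective hqg hq hZfl
  have hne : LinearMap.ker q ≠ ⊥ := by
    rw [LinearMap.exact_iff.1 hex]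
    intro h0
    obtain ⟨z, hz⟩ := exists_ne (0 : Z.carrier)
    refine hz (hinj ?_)
    rw [map_zero]
    exact (Submodule.eq_bot_iff _).1 h0 _ ⟨z, rfl⟩
  obtain ⟨c, hc⟩ := hP
  have hY := child Y q hYfl hq hne (P - P.comp (Polynomial.X - Polynomial.C (e : ℚ))) ⟨c + e, fun g hg => by
    have h1 := lenN_comp_add hpos hZfl hμ hqg hinj hq hex g
    have h2 := hc g (by omega)
    have h3 := hc (g - e) (by omega)
    rw [Polynomial.eval_sub, Polynomial.eval_comp, Polynomial.eval_sub, Polynomial.eval_X, Polynomial.eval_C,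
      ← Int.cast_sub, h2, h3, h1, Nat.cast_add]
    ring⟩
  let G : ℤ → ℚ := fun g =>
    (lenN (S := GrLC.deg0 𝒜) (GrLC.comp 𝒜 Z.gr g) : ℚ) - (eulerH a N Z g : ℚ) - P.eval (g : ℚ)
  have hper : ∀ g, G g = G (g - e) := fun g => by
    have h1 := lenN_comp_add hpos hZfl hμ hqg hinj hq hex g
    have h2 := eulerH_add hμ hqg hinj hq hex N g (hvN Z _) (hfl Z hZfl _) (hfl Z hZfl _) (hfl Y hYfl _)
    have h3 := hY g
    rw [Polynomial.eval_sub, Polynomial.eval_comp, Polynomial.eval_sub, Polynomial.eval_X, Polynomial.eval_C,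
      ← Int.cast_sub] at h3
    simp only [G, h1, h2]
    push_cast
    push_cast at h3
    linarith
  obtain ⟨cE, hcE⟩ := exists_eulerH_zero hpos ha N Z
  have hev : ∀ g, max c cE < g → G g = 0 := fun g hg => by
    simp only [G, hcE g (by omega), hc g (by omega)]
    simp
  have hall : ∀ (k : ℕ) (g : ℤ), max c cE - g < k → G g = 0 := by
    intro k
    induction k with
    | zero => exact fun g hg => hev g (by omega)
    | succ k ih =>
      intro g hg
      have := hper (g + e)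
      rw [add_sub_cancel_right] at this
      rw [← this]
      exact ih (g + e) (by omega)
  have := hall ((max c cE - g + 1).toNat) g (by omega)
  simp only [G, sub_eq_zero] at this
  exact this

end Groth.Agent.GrLib8.ReesSerre
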