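import Groth.Agent.GrLib8.ReesSerre.Fl
import Groth.Agent.LC.Connected
import Groth.Agent.LC.GorCech
import Groth.Prelude.Def_ReesMod

/-!
# The Grothendieck–Serre formula for the Rees module
-/

set_option autoImplicit false
set_option linter.unusedSectionVars false
set_option linter.style.haveILetI false
set_option quotPrecheck false
set_option maxHeartbeats 400000
set_option synthInstance.maxHeartbeats 200000

universe u

open Polynomial DirectSum

namespace Groth.Agent.GrLib8.ReesSerre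

section Generic

variable {R : Type u} [CommRing R] {σ : Type u} [SetLike σ R] [AddSubgroupClass σ R] {𝒜 : ℤ → σ} [GradedRing 𝒜]
variable {N : Type u} [AddCommGroup N] [Module R N] {τ : Type u} [SetLike τ N] [AddSubgroupClass τ N]
  (𝒩 : ℤ → τ) [Decomposition 𝒩] [SetLike.GradedSMul 𝒜 𝒩]

theorem range_isHomogeneous_deg {X : GrLC.GMod.{u} 𝒜} (f : X.carrier →ₗ[R] N) {d : ℤ}
    (hf : GrLC.IsGrHomDeg X.gr 𝒩 f d) : (LinearMap.range f).IsHomogeneous 𝒩 := by
  rintro g _ ⟨z, rfl⟩
  refine ⟨(decompose X.gr z (g - d) : X.carrier), ?_⟩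
  rw [map_decompose_deg f hf, sub_add_cancel]

variable (K : Submodule R N) (hK : K.IsHomogeneous 𝒩)

theorem mem_quot {g : ℤ} {y : (quotGMod 𝒜 𝒩 K hK).carrier} :
    y ∈ (quotGMod 𝒜 𝒩 K hK).gr g ↔ ∃ x ∈ 𝒩 g, K.mkQ x = y :=
  AddSubgroup.mem_map

/-- The range of a map of degree `-1` out of a homogeneous submodule. -/
theorem range_isHomogeneous_sub (𝒜' : ℤ → σ) [GradedRing 𝒜'] [SetLike.GradedSMul 𝒜' 𝒩]
    (hKp : K.IsHomogeneous 𝒩) (sf : K →ₗ[R] N)
    (hsf : ∀ (g : ℤ) (z : K), (z : N) ∈ 𝒩 g → sf z ∈ 𝒩 (g + -1)) : (LinearMap.range sf).IsHomogeneous 𝒩 :=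
  range_isHomogeneous_deg 𝒩 (X := subGMod 𝒜' 𝒩 K hKp) sf (fun g z hz => hsf g z hz)

theorem subsingleton_comp_quot {g : ℤ} (h : ∀ x ∈ 𝒩 g, x ∈ K) :
    Subsingleton (GrLC.comp 𝒜 (quotGMod 𝒜 𝒩 K hK).gr g) := by
  refine subsingleton_of_forall_eq 0 fun y => Subtype.ext ?_
  obtain ⟨x, hx, hxy⟩ := (mem_quot 𝒩 K hK).1 y.2
  rw [← hxy]
  exact (Submodule.Quotient.mk_eq_zero K).2 (h x hx)

theorem torsion_quot (b : Ideal R) (h : ∀ r ∈ b, ∀ x : N, r • x ∈ K) :
    LocCoh.IsPowerTorsion b (quotGMod 𝒜 𝒩 K hK).carrier := by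
  intro (y : N ⧸ K)
  obtain ⟨x, rfl⟩ := Submodule.Quotient.mk_surjective K y
  refine ⟨1, fun r hr => ?_⟩
  rw [pow_one] at hr
  show Submodule.Quotient.mk (r • x) = (0 : N ⧸ K)
  exact (Submodule.Quotient.mk_eq_zero K).2 (h r hr x)

variable {A : Type u} [CommRing A] (φ : A →+* GrLC.deg0 𝒜)

/-- Length over the scalars of degree zero of a piece of a quotient. -/
theorem length_comp_quot (hφ : Function.Surjective φ) {L : Type u} [AddCommGroup L] [Module A L] (g : ℤ)
    (v : L →+ N) (hv : ∀ x, v x ∈ 𝒩 g) (hsurj : ∀ y ∈ 𝒩 g, ∃ x, v x = y)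
    (hlin : ∀ (a : A) (x : L), v (a • x) = ((φ a : GrLC.deg0 𝒜) : R) • v x)
    (L' : Submodule A L) (hker : ∀ x, v x ∈ K ↔ x ∈ L') :
    Module.length (GrLC.deg0 𝒜) (GrLC.comp 𝒜 (quotGMod 𝒜 𝒩 K hK).gr g) = Module.length A (L ⧸ L') := by
  let G := quotGMod 𝒜 𝒩 K hK
  let w₀ : L →+ GrLC.comp 𝒜 G.gr g :=
    { toFun := fun x => ⟨K.mkQ (v x), (mem_quot 𝒩 K hK).2 ⟨v x, hv x, rfl⟩⟩
      map_zero' := Subtype.ext (by show K.mkQ (v 0) = 0; rw [map_zero, map_zero])
      map_add' := fun x y => Subtype.ext (by show K.mkQ (v (x + y)) = K.mkQ (v x) + K.mkQ (v y); rw [map_add, map_add]) }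
  have hw : ∀ (a : A) (x : L), w₀ (a • x) = φ a • w₀ x := fun a x => Subtype.ext (by
    show K.mkQ (v (a • x)) = ((φ a : GrLC.deg0 𝒜) : R) • K.mkQ (v x)
    rw [hlin, map_smul])
  have hws : Function.Surjective w₀ := fun y => by
    obtain ⟨x, hx, hxy⟩ := (mem_quot 𝒩 K hK).1 y.2
    obtain ⟨l, rfl⟩ := hsurj x hx
    exact ⟨l, Subtype.ext hxy⟩
  letI : Algebra A (GrLC.deg0 𝒜) := φ.toAlgebra
  letI : Module A (GrLC.comp 𝒜 G.gr g) := Module.compHom _ φ
  haveI : IsScalarTower A (GrLC.deg0 𝒜) (GrLC.comp 𝒜 G.gr g) := IsScalarTower.of_algebraMap_smul fun _ _ => rfl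
  let w : L →ₗ[A] GrLC.comp 𝒜 G.gr g := { toFun := w₀, map_add' := map_add w₀, map_smul' := hw }
  rw [← Module.length_eq_of_surjective (S := A) (R := GrLC.deg0 𝒜) (M := GrLC.comp 𝒜 G.gr g) hφ]
  refine (((Submodule.quotEquivOfEq L' (LinearMap.ker w) (Submodule.ext fun x => ?_)).trans
    (w.quotKerEquivOfSurjective hws)).length_eq).symm
  rw [LinearMap.mem_ker, ← hker]
  exact ⟨fun h => Subtype.ext ((Submodule.Quotient.mk_eq_zero K).2 h),
    fun h => (Submodule.Quotient.mk_eq_zero K).1 (congrArg Subtype.val h)⟩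

end Generic

section Core

variable {R : Type u} [CommRing R] [IsNoetherianRing R] {σ : Type u} [SetLike σ R] [AddSubgroupClass σ R]
  {𝒜 : ℤ → σ} [GradedRing 𝒜] {V : Type u} [AddCommGroup V] [Module R V] [Module.Finite R V]
  {τ : Type u} [SetLike τ V] [AddSubgroupClass τ V] (𝒩 : ℤ → τ) [Decomposition 𝒩] [SetLike.GradedSMul 𝒜 𝒩]

/-- The descending computation. -/
theorem core (hpos : ∀ n < 0, ∀ r ∈ 𝒜 n, r = 0) (Kp : Submodule R V) (hKp : Kp.IsHomogeneous 𝒩)
    (sf : Kp →ₗ[R] V) (hsf : ∀ (g : ℤ) (z : Kp), (z : V) ∈ 𝒩 g → sf z ∈ 𝒩 (g + -1))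
    (hsfi : Function.Injective sf) (htors : ∀ r ∈ (GrSyz.irrel 𝒜).toIdeal, ∀ x : V, r • x ∈ Kp)
    (hzero : ∀ g : ℤ, g ≠ 0 → ∀ x ∈ 𝒩 g, x ∈ Kp) (hneg : ∀ g : ℤ, g < 0 → ∀ x ∈ 𝒩 g, x = 0)
    (ℓ : ℕ → ℕ)
    (hℓ : ∀ m : ℕ, IsFiniteLength (GrLC.deg0 𝒜) (GrLC.comp 𝒜 (quotGMod 𝒜 𝒩 (LinearMap.range sf)
          (range_isHomogeneous_sub 𝒩 Kp 𝒜 hKp sf hsf)).gr (m : ℤ)) ∧
      (lenN (S := GrLC.deg0 𝒜) (GrLC.comp 𝒜 (quotGMod 𝒜 𝒩 (LinearMap.range sf)
          (range_isHomogeneous_sub 𝒩 Kp 𝒜 hKp sf hsf)).gr (m : ℤ)) : ℤ) = (ℓ (m + 1) : ℤ) - ℓ m)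
    (P : Polynomial ℚ) (hP : ∃ N : ℕ, ∀ n : ℕ, N ≤ n → P.eval (n : ℚ) = (ℓ n : ℚ))
    (E : GrLC.StarInjRes 𝒜 𝒩) (n : ℕ) :
    (∀ i : ℕ, IsFiniteLength (GrLC.deg0 𝒜) (E.Hcomp (GrSyz.irrel 𝒜) i (n : ℤ))) ∧
      Set.Finite {i : ℕ | E.Hcomp (GrSyz.irrel 𝒜) i (n : ℤ) ≠ ⊥} ∧
      P.eval (n : ℚ) - (ℓ n : ℚ) =
        finsum (fun i : ℕ => (-1 : ℚ) ^ i *
          ((Module.length (GrLC.deg0 𝒜) (E.Hcomp (GrSyz.irrel 𝒜) i (n : ℤ))).toNat : ℚ)) := by
  classical
  let a := GrSyz.irrel 𝒜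
  have ha : (GrSyz.irrel 𝒜).toIdeal ≤ a.toIdeal := le_rfl
  have hak : ∃ k, a.toIdeal ^ k ≤ (GrSyz.irrel 𝒜).toIdeal := ⟨1, by rw [pow_one]⟩
  obtain ⟨s, hs⟩ := IsNoetherian.noetherian a.toIdeal
  set N := s.card with hNdef
  have hN : ∀ (X : GrLC.GMod.{u} 𝒜) (i : ℕ) (g : ℤ), N < i → HVan a X i g := fun X i g hi F => by
    haveI : Subsingleton (LocCoh.H a.toIdeal i X.carrier) := by
      rw [← hs]; exact LC.cdLE_span_finset s X.carrier i hi
    obtain ⟨e⟩ := nonempty_H_equiv X.gr F a i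
    haveI := e.toEquiv.subsingleton
    exact Hcomp_eq_bot_of_subsingleton F a i g
  let X0 := gmodPieces 𝒜 𝒩
  let K := subGMod 𝒜 𝒩 Kp hKp
  let T0 := quotGMod 𝒜 𝒩 Kp hKp
  let G := quotGMod 𝒜 𝒩 (LinearMap.range sf) (range_isHomogeneous_sub 𝒩 Kp 𝒜 hKp sf hsf)
  haveI : Module.Finite R X0.carrier := inferInstanceAs (Module.Finite R V)
  haveI : Module.Finite R G.carrier :=
    Module.Finite.of_surjective (LinearMap.range sf).mkQ (Submodule.mkQ_surjective _)
  let j : K.carrier →ₗ[R] X0.carrier := Kp.subtype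
  let s' : K.carrier →ₗ[R] X0.carrier := sf
  let q0 : X0.carrier →ₗ[R] T0.carrier := Kp.mkQ
  let q1 : X0.carrier →ₗ[R] G.carrier := (LinearMap.range sf).mkQ
  have hj : GrLC.IsGrHomDeg K.gr X0.gr j 0 := fun g m hm => (add_zero g).symm ▸ hm
  have hs' : GrLC.IsGrHomDeg K.gr X0.gr s' (-1) := fun g z hz => hsf g z hz
  have hq0 : GrLC.IsGrHomDeg X0.gr T0.gr q0 0 := fun g m hm => (add_zero g).symm ▸ isGrHom_mkQ 𝒩 _ g m hm
  have hq1 : GrLC.IsGrHomDeg X0.gr G.gr q1 0 := fun g m hm => (add_zero g).symm ▸ isGrHom_mkQ 𝒩 _ g m hm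
  have hji : Function.Injective j := Subtype.val_injective
  have hsi : Function.Injective s' := hsfi
  have hx0 : Function.Exact j q0 := LinearMap.exact_subtype_mkQ _
  have hx1 : Function.Exact s' q1 := LinearMap.exact_map_mkQ_range sf
  have hq0s : Function.Surjective q0 := Submodule.mkQ_surjective Kp
  have hq1s : Function.Surjective q1 := Submodule.mkQ_surjective (LinearMap.range sf)
  have hT : LocCoh.IsPowerTorsion a.toIdeal T0.carrier := torsion_quot 𝒩 Kp hKp _ htors
  have hGfl : FL G := fun g => by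
    rcases lt_or_ge g 0 with hg | hg
    · haveI : Subsingleton (GrLC.comp 𝒜 G.gr g) := subsingleton_comp_quot 𝒩 _ _ fun x hx => (hneg g hg x hx).symm ▸ zero_mem _
      exact IsFiniteLength.of_subsingleton
    · obtain ⟨m, rfl⟩ := Int.eq_ofNat_of_zero_le hg
      exact (hℓ m).1
  have flG : ∀ i g, IsFiniteLength (GrLC.deg0 𝒜) ((starRes G.gr).Hcomp a i g) :=
    fun i g => fl_piece hpos ha hak i G hGfl g _
  have hTvan : ∀ i g, g ≠ 0 → HVan a T0 i g := fun i g hg => by
    rcases i with _ | i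
    · intro F
      obtain ⟨ι₀, hι, -⟩ := exists_H0_piece (a := a) F g
      haveI : Subsingleton (GrLC.comp 𝒜 T0.gr g) := subsingleton_comp_quot 𝒩 Kp hKp (hzero g hg)
      haveI := hι.subsingleton
      exact Submodule.subsingleton_iff_eq_bot.1 ‹_›
    · exact hVan_of_torsion hT i g
  have flT : ∀ i g, g ≠ 0 → IsFiniteLength (GrLC.deg0 𝒜) ((starRes T0.gr).Hcomp a i g) := fun i g hg => by
    haveI := Submodule.subsingleton_iff_eq_bot.2 (hTvan i g hg (starRes T0.gr))
    exact IsFiniteLength.of_subsingleton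
  -- the positive part agrees with the Rees module in positive degrees
  have flK : ∀ g, g ≠ 0 → (∀ i, IsFiniteLength (GrLC.deg0 𝒜) ((starRes X0.gr).Hcomp a i g)) →
      ∀ i, IsFiniteLength (GrLC.deg0 𝒜) ((starRes K.gr).Hcomp a i g) := fun g hg hX i => by
    obtain ⟨h0, hi⟩ := exists_les j q0 hj hq0 hji hq0s hx0 (starRes K.gr) (starRes X0.gr) (starRes T0.gr) a
    rcases i with _ | i
    · let u0 := pieceMap (starRes K.gr) (starRes X0.gr) a _ (isGrHomDeg_hmap a hj 0) (add_zero g)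
      exact IsFiniteLength.of_injective (f := u0) (hX 0) fun x y h => Subtype.ext (h0 (congrArg Subtype.val h :))
    · obtain ⟨δ, hδ, -, -, e3⟩ := hi i
      refine phi_of_exact (Φ := fun A _ _ => IsFiniteLength (GrLC.deg0 𝒜) A) midClosed_fl (starRes T0.gr)
        (starRes K.gr) (starRes X0.gr) δ _ hδ (isGrHomDeg_hmap a hj (i + 1)) e3 ?_ ?_
      · rw [neg_zero, sub_zero]; exact flT i g hg
      · rw [add_zero]; exact hX (i + 1)
  -- descending induction on the degree
  have flX : ∀ (g : ℕ) (i : ℕ), IsFiniteLength (GrLC.deg0 𝒜) ((starRes X0.gr).Hcomp a i (g : ℤ)) := by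
    choose b hb using fun i => exists_hVan hpos ha i X0
    obtain ⟨c, hc⟩ : ∃ c : ℤ, ∀ i g, c < g → HVan a X0 i g := by
      refine ⟨∑ i ∈ Finset.range (N + 1), |b i|, fun i g hg => ?_⟩
      by_cases hi : N < i
      · exact hN X0 i g hi
      · have := Finset.single_le_sum (f := fun i => |b i|) (fun i _ => abs_nonneg _)
          (Finset.mem_range.2 (by omega : i < N + 1))
        have := le_abs_self (b i)
        exact hb i g (by omega)
    suffices ∀ (k : ℕ) (g : ℕ), c - g < k → ∀ i,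
        IsFiniteLength (GrLC.deg0 𝒜) ((starRes X0.gr).Hcomp a i (g : ℤ)) from
      fun g => this ((c - g + 1).toNat) g (by omega)
    intro k
    induction k with
    | zero =>
      intro g hg i
      haveI := Submodule.subsingleton_iff_eq_bot.2 (hc i g (by omega) (starRes X0.gr))
      exact IsFiniteLength.of_subsingleton
    | succ k ih =>
      intro g hg i
      have h1 := flK ((g + 1 : ℕ) : ℤ) (by omega) (ih (g + 1) (by omega)) i
      obtain ⟨-, hi⟩ := exists_les s' q1 hs' hq1 hsi hq1s hx1 (starRes K.gr) (starRes X0.gr) (starRes G.gr) a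
      obtain ⟨δ, hδ, e1, -, -⟩ := hi i
      refine phi_of_exact (Φ := fun A _ _ => IsFiniteLength (GrLC.deg0 𝒜) A) midClosed_fl (starRes K.gr)
        (starRes X0.gr) (starRes G.gr) _ _ (isGrHomDeg_hmap a hs' i) (isGrHomDeg_hmap a hq1 i) e1 ?_ (flG i _)
      rw [show (g : ℤ) - -1 = ((g + 1 : ℕ) : ℤ) by push_cast; ring]
      exact h1
  have hstep : ∀ g : ℕ, eulerH a N X0 (g : ℤ) = eulerH a N X0 ((g + 1 : ℕ) : ℤ) + eulerH a N G (g : ℤ) := fun g => by
    have e : (g : ℤ) - -1 = ((g + 1 : ℕ) : ℤ) := by push_cast; ring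
    have h1 := eulerH_add (a := a) hs' hq1 hsi hq1s hx1 N (g : ℤ) (hN K _ _ (by omega))
      (by rw [e]; exact flK _ (by omega) (flX (g + 1))) (flX g) (fun i => flG i _)
    rw [e] at h1
    have h2 := eulerH_add (a := a) hj hq0 hji hq0s hx0 N ((g + 1 : ℕ) : ℤ) (hN K _ _ (by omega))
      (by rw [sub_zero]; exact flK _ (by omega) (flX (g + 1))) (flX (g + 1)) (fun i => flT i _ (by omega))
    rw [sub_zero] at h2
    have h3 : eulerH a N T0 ((g + 1 : ℕ) : ℤ) = 0 := Finset.sum_eq_zero fun i _ => by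
      rw [lenH_zero (hTvan i _ (by omega)), Nat.cast_zero, mul_zero]
    rw [h1, h2, h3, add_zero]
  obtain ⟨N₀, hN₀⟩ := hP
  let Q : Polynomial ℚ := P.comp (Polynomial.X + 1) - P
  have hQ : ∀ g : ℕ, Q.eval ((g : ℤ) : ℚ) = P.eval ((g + 1 : ℕ) : ℚ) - P.eval (g : ℚ) := fun g => by
    simp [Q]
  have hform : ∀ g : ℕ, (lenN (S := GrLC.deg0 𝒜) (GrLC.comp 𝒜 G.gr (g : ℤ)) : ℚ) -
      (eulerH a N G (g : ℤ) : ℚ) = Q.eval ((g : ℤ) : ℚ) := fun g => by
    refine formula hpos ha hak N hN G hGfl Q ⟨N₀, fun m hm => ?_⟩ g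
    obtain ⟨m, rfl⟩ := Int.eq_ofNat_of_zero_le (le_of_lt (lt_of_le_of_lt (Int.natCast_nonneg N₀) hm))
    rw [hQ, hN₀ _ (by omega), hN₀ _ (by omega)]
    have := congrArg (fun z : ℤ => (z : ℚ)) (hℓ m).2
    push_cast at this
    exact this.symm
  let D : ℕ → ℚ := fun g => P.eval (g : ℚ) - (ℓ g : ℚ) - (eulerH a N X0 (g : ℤ) : ℚ)
  have hD : ∀ g, D g = D (g + 1) := fun g => by
    have h1 := hform g
    rw [hQ] at h1
    have h2 := congrArg (fun z : ℤ => (z : ℚ)) (hℓ g).2
    push_cast at h2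
    have h3 := congrArg (fun z : ℤ => (z : ℚ)) (hstep g)
    push_cast at h3 h1
    simp only [D]
    push_cast
    linarith
  have hD0 : D n = 0 := by
    obtain ⟨c, hc⟩ := exists_eulerH_zero hpos ha N X0
    obtain ⟨m, hm1, hm2, hm3⟩ : ∃ m : ℕ, n ≤ m ∧ N₀ ≤ m ∧ c < (m : ℤ) :=
      ⟨n + N₀ + c.toNat + 1, by omega, by omega, by omega⟩
    have hm : D m = 0 := by
      simp only [D, hN₀ m hm2, hc _ hm3]
      simp
    have hmono : ∀ k, D n = D (n + k) := fun k => by
      induction k with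
      | zero => rfl
      | succ k ih => exact ih.trans (hD (n + k))
    rw [hmono (m - n), Nat.add_sub_cancel' hm1, hm]
  have hEfl : ∀ i, IsFiniteLength (GrLC.deg0 𝒜) (E.Hcomp a i (n : ℤ)) ∧
      (Module.length (GrLC.deg0 𝒜) (E.Hcomp a i (n : ℤ))).toNat = lenH a X0 i (n : ℤ) := fun i => by
    obtain ⟨e⟩ := nonempty_piece_equiv E (starRes X0.gr) a i (n : ℤ)
    exact ⟨e.symm.isFiniteLength (flX n i), lenN_congr e⟩
  have hEvan : ∀ i, N < i → E.Hcomp a i (n : ℤ) = ⊥ := fun i hi => by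
    obtain ⟨e⟩ := nonempty_piece_equiv E (starRes X0.gr) a i (n : ℤ)
    haveI := Submodule.subsingleton_iff_eq_bot.2 (hN X0 i (n : ℤ) hi (starRes X0.gr))
    exact Submodule.subsingleton_iff_eq_bot.1 e.toEquiv.subsingleton
  refine ⟨fun i => (hEfl i).1, (Finset.range (N + 1)).finite_toSet.subset fun i hi => ?_, ?_⟩
  · simp only [Finset.coe_range, Set.mem_Iio]
    exact Nat.lt_succ_of_le (not_lt.1 fun h => hi (hEvan i h))
  · rw [finsum_eq_sum_of_support_subset _ (s := Finset.range (N + 1)) (fun i hi => ?_)]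
    · simp only [D, sub_eq_zero] at hD0
      rw [hD0, eulerH]
      push_cast
      exact Finset.sum_congr rfl fun i _ => by rw [(hEfl i).2]
    · simp only [Finset.coe_range, Set.mem_Iio]
      refine Nat.lt_succ_of_le (not_lt.1 fun h => hi ?_)
      haveI := Submodule.subsingleton_iff_eq_bot.2 (hEvan i h)
      show (-1 : ℚ) ^ i * _ = 0
      rw [Module.length_eq_zero_iff.2 ‹_›]
      simp


end Core

variable {A : Type u} [CommRing A] (I : Ideal A) (M : Type u) [AddCommGroup M] [Module A M]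

/-- The Rees algebra in degrees. -/
local notation "𝒜r" => Rees.degZ (reesAlgebra I)
/-- The Rees module. -/
local notation "Mst" => ↥(Ideal.Filtration.submodule (Rees.powFilt I M))
local notation "ℳr" => Rees.mdegZ (Rees.powFilt I M)

theorem degZ_neg : ∀ n < 0, ∀ r ∈ 𝒜r n, r = 0 := fun n hn r hr =>
  Subtype.ext (Polynomial.ext fun m => (((Rees.mem_degZ_iff _ _ _).1 hr) m (by omega)).trans (Polynomial.coeff_zero m).symm)

theorem algebraMap_mem_zero (a : A) : algebraMap A (reesAlgebra I) a ∈ SetLike.GradeZero.subring 𝒜r :=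
  (Rees.mem_degZ_iff _ _ _).2 fun m hm => by
    show (Polynomial.C a).coeff m = 0
    exact Polynomial.coeff_C_of_ne_zero (by omega)

/-- The scalars in degree zero. -/
noncomputable def toZero : A →+* GrLC.deg0 𝒜r :=
  (algebraMap A (reesAlgebra I)).codRestrict (SetLike.GradeZero.subring 𝒜r) (algebraMap_mem_zero I)

theorem toZero_surjective : Function.Surjective (toZero I) := fun r => by
  refine ⟨((r : reesAlgebra I) : A[X]).coeff 0, Subtype.ext (Subtype.ext (Polynomial.ext fun m => ?_))⟩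
  show (Polynomial.C _).coeff m = _
  rcases m with _ | m
  · exact Polynomial.coeff_C_zero
  · rw [Polynomial.coeff_C_succ]
    exact ((Rees.mem_degZ_iff _ _ _).1 r.2 (m + 1) (by omega)).symm

theorem coeff_irrel {r : reesAlgebra I} (hr : r ∈ (GrSyz.irrel 𝒜r).toIdeal) : (r : A[X]).coeff 0 = 0 := by
  change r ∈ Ideal.span _ at hr
  induction hr using Submodule.span_induction with
  | mem x hx =>
    obtain ⟨n, hn, hx⟩ := hx
    exact (Rees.mem_degZ_iff _ _ _).1 hx 0 (by omega)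
  | zero => rfl
  | add x y _ _ hx hy =>
    show ((x : A[X]) + (y : A[X])).coeff 0 = 0
    rw [Polynomial.coeff_add, hx, hy, add_zero]
  | smul c x _ hx =>
    show ((c : A[X]) * (x : A[X])).coeff 0 = 0
    rw [Polynomial.mul_coeff_zero, hx, mul_zero]

theorem finite_rees [IsNoetherianRing A] [Module.Finite A M] : Module.Finite (reesAlgebra I) Mst :=
  Module.Finite.iff_fg.2 ((Ideal.Filtration.submodule_fg_iff_stable _ fun _ => IsNoetherian.noetherian _).2
    (Ideal.stableFiltration_stable I ⊤))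

theorem coeff_smul_zero (r : reesAlgebra I) (z : Mst) :
    ((r • z : Mst) : PolynomialModule A M).coeff 0 = (r : A[X]).coeff 0 • (z : PolynomialModule A M).coeff 0 := by
  rw [Submodule.coe_smul, Subalgebra.smul_def, PolynomialModule.smul_apply, Finset.Nat.antidiagonal_zero,
    Finset.sum_singleton]

/-- The positive part of the Rees module. -/
def posPart : Submodule (reesAlgebra I) Mst where
  carrier := {z | (z : PolynomialModule A M).coeff 0 = 0}
  zero_mem' := rfl
  add_mem' {x y} hx hy := by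
    change ((x : PolynomialModule A M) + (y : PolynomialModule A M)).coeff 0 = 0
    rw [PolynomialModule.coeff_add, Finsupp.add_apply]
    show (x : PolynomialModule A M).coeff 0 + (y : PolynomialModule A M).coeff 0 = 0
    rw [show (x : PolynomialModule A M).coeff 0 = 0 from hx, show (y : PolynomialModule A M).coeff 0 = 0 from hy,
      add_zero]
  smul_mem' r z hz := by
    show ((r • z : Mst) : PolynomialModule A M).coeff 0 = 0
    rw [coeff_smul_zero, show (z : PolynomialModule A M).coeff 0 = 0 from hz, smul_zero]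

theorem posPart_isHomogeneous : (posPart I M).IsHomogeneous ℳr := by
  classical
  intro g z hz
  show ((DirectSum.decompose ℳr z g : Mst) : PolynomialModule A M).coeff 0 = 0
  by_cases hg : g = 0
  · subst hg
    have h := congrArg (fun w : Mst => (w : PolynomialModule A M).coeff 0) (DirectSum.sum_support_decompose ℳr z)
    simp only [AddSubmonoidClass.coe_finsetSum, PolynomialModule.coeff_sum, Finsupp.finsetSum_apply] at h
    rw [Finset.sum_eq_single (0 : ℤ) (fun i _ hi => (DirectSum.decompose ℳr z i).2 0 (by simpa using hi.symm))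
      (fun h0 => by simp [DFinsupp.notMem_support_iff.1 h0])] at h
    exact h.trans hz
  · exact (DirectSum.decompose ℳr z g).2 0 (by simpa using Ne.symm hg)

/-- Shifting down a polynomial. -/
noncomputable def down (p : PolynomialModule A M) : PolynomialModule A M :=
  PolynomialModule.ofCoeff A (p.coeff.comapDomain Nat.succ Nat.succ_injective.injOn)

theorem coeff_down (p : PolynomialModule A M) (m : ℕ) : (down M p).coeff m = p.coeff (m + 1) := by
  rw [down, PolynomialModule.coeff_ofCoeff, Finsupp.comapDomain_apply]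

theorem coeff_X_smul (p : PolynomialModule A M) (m : ℕ) :
    ((Polynomial.X : A[X]) • p).coeff m = if 1 ≤ m then p.coeff (m - 1) else 0 := by
  rw [← Polynomial.monomial_one_one_eq_X, PolynomialModule.monomial_smul_apply]
  split_ifs <;> simp

theorem down_smul (f : A[X]) {p : PolynomialModule A M} (hp : p.coeff 0 = 0) : down M (f • p) = f • down M p := by
  have h1 : ∀ q : PolynomialModule A M, q.coeff 0 = 0 → (Polynomial.X : A[X]) • down M q = q := fun q hq =>
    PolynomialModule.coeff_injective (Finsupp.ext fun m => by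
      rw [coeff_X_smul]
      rcases m with _ | m
      · simp [hq]
      · simp [coeff_down])
  have h2 : ∀ q : PolynomialModule A M, down M ((Polynomial.X : A[X]) • q) = q := fun q =>
    PolynomialModule.coeff_injective (Finsupp.ext fun m => by
      rw [coeff_down, coeff_X_smul]
      simp)
  conv_lhs => rw [← h1 p hp, smul_comm f (Polynomial.X : A[X]) (down M p), h2]

/-- Division by the variable on the positive part. -/
noncomputable def shift : posPart I M →ₗ[reesAlgebra I] Mst where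
  toFun z := ⟨down M ((z : Mst) : PolynomialModule A M), fun m => by
    rw [coeff_down]
    exact (Rees.powFilt I M).mono m ((z : Mst).2 (m + 1))⟩
  map_add' x y := Subtype.ext (PolynomialModule.coeff_injective (Finsupp.ext fun m => by
    show (down M (((x : Mst) : PolynomialModule A M) + ((y : Mst) : PolynomialModule A M))).coeff m =
      (down M ((x : Mst) : PolynomialModule A M) + down M ((y : Mst) : PolynomialModule A M)).coeff m
    simp [coeff_down]))
  map_smul' r z := Subtype.ext (down_smul M (r : A[X]) z.2)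

theorem coeff_shift (z : posPart I M) (m : ℕ) :
    ((shift I M z : Mst) : PolynomialModule A M).coeff m = ((z : Mst) : PolynomialModule A M).coeff (m + 1) :=
  coeff_down M _ m

theorem shift_injective : Function.Injective (shift I M) := fun x y h =>
  Subtype.ext (Subtype.ext (PolynomialModule.coeff_injective (Finsupp.ext fun m => by
    rcases m with _ | m
    · exact x.2.trans y.2.symm
    · rw [← coeff_shift, ← coeff_shift, h])))

theorem shift_deg : ∀ (g : ℤ) (z : posPart I M), (z : Mst) ∈ ℳr g → shift I M z ∈ ℳr (g + -1) := fun g z hz =>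
  (Rees.mem_mdegZ_iff _ _ _).2 fun m hm => (coeff_shift I M z m).trans
    ((Rees.mem_mdegZ_iff _ _ _).1 hz (m + 1) (by omega))

theorem coeff_mdegEquiv (n m : ℕ) (x : (Rees.powFilt I M).N n) :
    (((Rees.mdegEquiv (Rees.powFilt I M) n x : Mst)) : PolynomialModule A M).coeff m =
      if n = m then (x : M) else 0 := by
  show (PolynomialModule.single A n (x : M)).coeff m = _
  rw [PolynomialModule.coeff_single, Finsupp.single_apply]

theorem coe_toZero (a : A) : ((toZero I a : GrLC.deg0 𝒜r) : reesAlgebra I) = algebraMap A (reesAlgebra I) a := rfl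

/-- The embedding of a piece. -/
noncomputable def pieceIncl (n : ℕ) : (Rees.powFilt I M).N n →+ Mst :=
  (Rees.mdeg (Rees.powFilt I M) n).subtype.comp (Rees.mdegEquiv (Rees.powFilt I M) n).toAddMonoidHom

theorem mem_range_shift (n : ℕ) (x : (Rees.powFilt I M).N n) :
    pieceIncl I M n x ∈ LinearMap.range (shift I M) ↔ (x : M) ∈ (Rees.powFilt I M).N (n + 1) := by
  constructor
  · rintro ⟨z, hz⟩
    have h1 := congrArg (fun w : Mst => (w : PolynomialModule A M).coeff n) hz
    simp only [coeff_shift] at h1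
    rw [show ((pieceIncl I M n x : Mst) : PolynomialModule A M).coeff n = (x : M) from
      (coeff_mdegEquiv I M n n x).trans (if_pos rfl)] at h1
    exact h1 ▸ (z : Mst).2 (n + 1)
  · intro hx
    refine ⟨⟨pieceIncl I M (n + 1) ⟨(x : M), hx⟩, (coeff_mdegEquiv I M (n + 1) 0 _).trans (if_neg (by omega))⟩, ?_⟩
    refine Subtype.ext (PolynomialModule.coeff_injective (Finsupp.ext fun m => ?_))
    refine (coeff_shift I M _ m).trans ((coeff_mdegEquiv I M (n + 1) (m + 1) _).trans
      (Eq.trans ?_ (coeff_mdegEquiv I M n m x).symm))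
    simp

theorem length_comp_assocGr (n : ℕ) :
    Module.length (GrLC.deg0 𝒜r) (GrLC.comp 𝒜r (quotGMod 𝒜r ℳr (LinearMap.range (shift I M))
        (range_isHomogeneous_sub ℳr (posPart I M) 𝒜r (posPart_isHomogeneous I M) (shift I M) (shift_deg I M))).gr (n : ℤ)) =
      Module.length A (((Rees.powFilt I M).N n) ⧸
        ((Rees.powFilt I M).N (n + 1)).comap ((Rees.powFilt I M).N n).subtype) := by
  refine length_comp_quot ℳr _ _ (toZero I) (toZero_surjective I) (n : ℤ) (pieceIncl I M n)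
    (fun x => (Rees.mem_mdegZ_natCast_iff _ n _).2 (Rees.mdegEquiv (Rees.powFilt I M) n x).2) (fun y hy => ?_)
    (fun a x => ?_) _ (mem_range_shift I M n)
  · obtain ⟨w, hw⟩ := (Rees.mdegEquiv (Rees.powFilt I M) n).surjective
      ⟨y, (Rees.mem_mdegZ_natCast_iff _ n y).1 hy⟩
    exact ⟨w, congrArg Subtype.val hw⟩
  · rw [coe_toZero, algebraMap_smul]
    exact Rees.mdegEquiv_smul (Rees.powFilt I M) n a x

theorem isFiniteLength_quot [IsNoetherianRing A] [IsLocalRing A] [Module.Finite A M]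
    (hI : I.radical = IsLocalRing.maximalIdeal A) (n : ℕ) :
    IsFiniteLength A (M ⧸ (I ^ n • (⊤ : Submodule A M))) := by
  classical
  let N : Submodule A M := I ^ n • ⊤
  obtain ⟨m, hm⟩ := Ideal.exists_pow_le_of_le_radical_of_fg hI.ge (IsNoetherian.noetherian _)
  have hq : IsFiniteLength A (A ⧸ I ^ n) :=
    LC.isFiniteLength_quot_of_pow_le (N := m * n) ((pow_mul _ m n).trans_le (Ideal.pow_right_mono hm n))
  obtain ⟨k, f, hf⟩ := Module.Finite.exists_fin' A M
  obtain ⟨_, _⟩ := isFiniteLength_iff_isNoetherian_isArtinian.1 hq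
  have hpi : IsFiniteLength A (Fin k → A ⧸ I ^ n) :=
    isFiniteLength_iff_isNoetherian_isArtinian.2 ⟨inferInstance, inferInstance⟩
  let g : (Fin k → A ⧸ I ^ n) →ₗ[A] M ⧸ N := LinearMap.lsum A (fun _ => A ⧸ I ^ n) A fun i =>
    Submodule.liftQ (I ^ n) (N.mkQ.comp (LinearMap.toSpanSingleton A M (f (Pi.single i 1)))) fun r hr =>
      (Submodule.Quotient.mk_eq_zero N).2 (Submodule.smul_mem_smul hr Submodule.mem_top)
  refine IsFiniteLength.of_surjective (f := g) hpi fun y => ?_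
  obtain ⟨y, rfl⟩ := Submodule.Quotient.mk_surjective N y
  obtain ⟨c, rfl⟩ := hf y
  refine ⟨fun i => Submodule.Quotient.mk (c i), ?_⟩
  show _ = N.mkQ (f c)
  rw [LinearMap.pi_apply_eq_sum_univ f c, map_sum]
  simp only [g, LinearMap.lsum_apply, LinearMap.sum_apply]
  refine Finset.sum_congr rfl fun i _ => ?_
  show N.mkQ (c i • f (Pi.single i 1)) = N.mkQ (c i • f _)
  congr 3
  ext j
  simp [Pi.single_apply, eq_comm]

/-- The whole statement. -/
theorem main [IsNoetherianRing A] [IsLocalRing A] (hI : I.radical = IsLocalRing.maximalIdeal A)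
    [Module.Finite A M] (P : Polynomial ℚ)
    (hP : ∃ N : ℕ, ∀ n : ℕ, N ≤ n →
      P.eval (n : ℚ) = ((Module.length A (M ⧸ (I ^ n • (⊤ : Submodule A M)))).toNat : ℚ))
    (E : GrLC.StarInjRes 𝒜r ℳr) (n : ℕ) :
    (∀ i : ℕ, IsFiniteLength (GrLC.deg0 𝒜r) (E.Hcomp (GrSyz.irrel 𝒜r) i (n : ℤ))) ∧
      Set.Finite {i : ℕ | E.Hcomp (GrSyz.irrel 𝒜r) i (n : ℤ) ≠ ⊥} ∧
      P.eval (n : ℚ) - ((Module.length A (M ⧸ (I ^ n • (⊤ : Submodule A M)))).toNat : ℚ) =
        finsum (fun i : ℕ => (-1 : ℚ) ^ i *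
          ((Module.length (GrLC.deg0 𝒜r) (E.Hcomp (GrSyz.irrel 𝒜r) i (n : ℤ))).toNat : ℚ)) := by
  haveI hfin := finite_rees I M
  refine core ℳr (degZ_neg I) (posPart I M) (posPart_isHomogeneous I M) (shift I M) (shift_deg I M)
    (shift_injective I M) (fun r hr x => ?_) (fun g hg x hx => (Rees.mem_mdegZ_iff _ _ _).1 hx 0 (by omega))
    (fun g hg x hx => Subtype.ext (PolynomialModule.coeff_injective (Finsupp.ext fun m =>
      ((Rees.mem_mdegZ_iff _ _ _).1 hx m (by omega)).trans rfl)))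
    (fun m => (Module.length A (M ⧸ (I ^ m • (⊤ : Submodule A M)))).toNat) (fun m => ?_) P hP E n
  · show ((r • x : Mst) : PolynomialModule A M).coeff 0 = 0
    rw [coeff_smul_zero, coeff_irrel I hr, zero_smul]
  · have hfq := isFiniteLength_quot I M hI
    have hlen := length_comp_assocGr I M m
    let N1 : Submodule A M := I ^ (m + 1) • ⊤
    let N0 : Submodule A M := I ^ m • ⊤
    have hle : N1 ≤ N0 := Submodule.smul_mono_left (Ideal.pow_le_pow_right (Nat.le_succ m))
    let u : (N0 ⧸ N1.comap N0.subtype) →ₗ[A] M ⧸ N1 := Submodule.mapQ _ N1 N0.subtype le_rfl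
    let v : M ⧸ N1 →ₗ[A] M ⧸ N0 := Submodule.factor hle
    have hu : Function.Injective u := by
      rw [← LinearMap.ker_eq_bot]
      exact Submodule.ker_liftQ_eq_bot _ _ _ (by rw [LinearMap.ker_comp, Submodule.ker_mkQ])
    have hv : Function.Surjective v := Submodule.factor_surjective hle
    have huv : Function.Exact u v := by
      intro y
      obtain ⟨z, rfl⟩ := Submodule.Quotient.mk_surjective _ y
      constructor
      · intro h
        exact ⟨Submodule.Quotient.mk ⟨z, (Submodule.Quotient.mk_eq_zero N0).1 h⟩, rfl⟩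
      · rintro ⟨w, hw⟩
        obtain ⟨w, rfl⟩ := Submodule.Quotient.mk_surjective _ w
        rw [← hw]
        exact (Submodule.Quotient.mk_eq_zero N0).2 w.2
    have hadd := Module.length_eq_add_of_exact u v hu hv huv
    have h1 : Module.length A (N0 ⧸ N1.comap N0.subtype) ≠ ⊤ :=
      Module.length_ne_top_iff.2 (IsFiniteLength.of_injective (hfq (m + 1)) hu)
    refine ⟨Module.length_ne_top_iff.1 (fun h => h1 (hlen.symm.trans h)), ?_⟩
    have h2 : (Module.length A (M ⧸ N1)).toNat =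
        (Module.length A (N0 ⧸ N1.comap N0.subtype)).toNat + (Module.length A (M ⧸ N0)).toNat := by
      rw [hadd, ENat.toNat_add h1 (Module.length_ne_top_iff.2 (hfq m))]
    have h3 := congrArg ENat.toNat hlen
    simp only [lenN]
    rw [h3]
    change ((Module.length A (N0 ⧸ N1.comap N0.subtype)).toNat : ℤ) =
      ((Module.length A (M ⧸ N1)).toNat : ℤ) - ((Module.length A (M ⧸ N0)).toNat : ℤ)
    omega

end Groth.Agent.GrLib8.ReesSerre
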